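import Groth.Agent.Lib.LocAcyc9.Generic
import Groth.Agent.Lib.EtSite.FibreGeom
import Groth.Agent.Lib.EtSite.LocFlat
import Mathlib.FieldTheory.IsAlgClosed.AlgebraicClosure

/-!
# Flat morphisms with reduced geometric fibres are universally locally 0-acyclic
-/

set_option autoImplicit false

universe u

open CategoryTheory CategoryTheory.Limits AlgebraicGeometry

noncomputable section

namespace Groth.Agent.Lib.LocAcyc9

theorem flat_strict {A B RY RX : Type u} [CommRing A] [CommRing B] [IsLocalRing A] [IsLocalRing B]
    [CommRing RY] [CommRing RX] [IsLocalRing RY] [IsLocalRing RX] [Algebra A RY]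
    [IsLocalHom (algebraMap A RY)] [Hensel.IsStrictHenselization A RY] [Algebra B RX]
    [IsLocalHom (algebraMap B RX)] [Hensel.IsStrictHenselization B RX] [Algebra RY RX] (φ : A →+* B)
    (hφ : φ.Flat) (hc : (algebraMap RY RX).comp (algebraMap A RY) = (algebraMap B RX).comp φ) :
    (algebraMap RY RX).Flat := by
  letI : Algebra A B := φ.toAlgebra
  letI : Algebra A RX := ((algebraMap RY RX).comp (algebraMap A RY)).toAlgebra
  haveI : IsScalarTower A RY RX := IsScalarTower.of_algebraMap_eq' rfl
  haveI : IsScalarTower A B RX := IsScalarTower.of_algebraMap_eq' hc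
  haveI : Module.Flat A B := hφ
  haveI := Henselian.StrictHenselization.flat B RX
  haveI : Module.Flat A RX := Module.Flat.trans A B RX
  have h : EtPBC.IsIndEtale A RY :=
    IndEtale.Basic.of_algEquiv Henselian.IndEtale.isIndEtale_lim
      (Henselian.StrictHenselization.equivOfIsStrictHenselization A _)
  haveI := IndEtale.Basic.weaklyEtale h
  exact RingHom.flat_algebraMap_iff.2 (WeaklyEt.Flat.flat_of_flat_base (A := A) RX)

/-- A flat affine surjection is universally submersive. -/
theorem isUnivSubmersive_of_flat_surjective {A B : Scheme.{u}} (h : A ⟶ B) [Flat h] [QuasiCompact h]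
    [Surjective h] : EtDesc.IsUnivSubmersive h := fun _ k =>
  ⟨(pullback.snd h k).surjective, Flat.isQuotientMap_of_surjective _⟩

theorem isLocZeroAcyclic_of_flat_reduced {X Y : Scheme.{u}} (g : X ⟶ Y) [Flat g]
    [LocallyOfFinitePresentation g]
    (hred : ∀ (K : Type u) [Field K] (k : Spec (CommRingCat.of K) ⟶ Y), IsReduced (pullback g k)) :
    EtAcyc.IsLocZeroAcyclic g := by
  intro x RY RX _ _ _ _ _ _ _ _ _ _ _ hl hc
  have hflat := flat_strict (g.stalkMap x).hom (Flat.stalkMap g x) hc
  haveI : Flat (Spec.map (CommRingCat.ofHom (algebraMap RY RX))) :=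
    (HasRingHomProperty.Spec_iff (P := @Flat)).2 hflat
  haveI : Surjective (Spec.map (CommRingCat.ofHom (algebraMap RY RX))) := by
    haveI : Module.Flat RY RX := RingHom.flat_algebraMap_iff.1 hflat
    haveI : Module.FaithfullyFlat RY RX := Module.FaithfullyFlat.of_flat_of_isLocalHom
    exact ⟨PrimeSpectrum.comap_surjective_of_faithfullyFlat⟩
  refine EtDiscrete.isZeroAcyclic_of_connected _ (isUnivSubmersive_of_flat_surjective _)
    fun L _ _ s => ?_
  let F := AlgebraicClosure L
  let π := Spec.map (CommRingCat.ofHom (algebraMap L F))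
  haveI := EtSite.FibreGeom.connectedSpace_fibre g hred x RY RX hc F (π ≫ s)
  haveI : Surjective π := ⟨fun z => ⟨default, Subsingleton.elim _ _⟩⟩
  let h := Spec.map (CommRingCat.ofHom (algebraMap RY RX))
  let m : pullback h (π ≫ s) ⟶ pullback h s :=
    pullback.lift (pullback.fst _ _) (pullback.snd _ _ ≫ π) (by rw [Category.assoc]; exact pullback.condition)
  have sqm : IsPullback m (pullback.snd h (π ≫ s)) (pullback.snd h s) π := by
    refine IsPullback.of_right ?_ (pullback.lift_snd _ _ _) (IsPullback.of_hasPullback h s)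
    rw [pullback.lift_fst]
    exact IsPullback.of_hasPullback h (π ≫ s)
  have hm : Surjective m := MorphismProperty.of_isPullback sqm.flip ‹Surjective π›
  exact hm.surj.connectedSpace m.continuous

theorem flatRedAcyclic : FlatRedAcyclic.{u} := by
  intro X Y g _ _ hred X₁ Y₁ g₁ b' b sq
  haveI : Flat g₁ := MorphismProperty.of_isPullback sq inferInstance
  haveI : LocallyOfFinitePresentation g₁ := MorphismProperty.of_isPullback sq inferInstance
  refine isLocZeroAcyclic_of_flat_reduced g₁ fun K _ k => ?_
  haveI := hred K (k ≫ b)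
  exact isReduced_of_isOpenImmersion
    ((IsPullback.of_hasPullback g₁ k).paste_horiz sq).isoPullback.hom

end Groth.Agent.Lib.LocAcyc9
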