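import Groth.Agent.Lib.LocAcyc9.UnivHomeo
import Groth.Agent.Lib.Flat55.GeomReducedModel
import Groth.Agent.H46.NoethModel
import Groth.Agent.S0414
import Mathlib.Topology.NoetherianSpace

/-!
# Generic universal local 0-acyclicity
-/

set_option autoImplicit false

universe u

open CategoryTheory CategoryTheory.Limits AlgebraicGeometry TopologicalSpace
open Groth.Agent

noncomputable section

namespace Groth.Agent.Lib.LocAcyc9

/-- A closed subset missing the generic fibre misses the fibres over a nonempty open. -/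
theorem exists_open_disjoint {X Y : Scheme.{u}} (q : X ⟶ Y) [IsIntegral Y] [LocallyOfFiniteType q]
    [QuasiCompact q] (Z : Closeds X) (hZ : ∀ x ∈ Z, q.base x ≠ genericPoint Y) :
    ∃ W : Y.Opens, genericPoint Y ∈ W ∧ ∀ x, q.base x ∈ W → x ∉ Z := by
  let J := Scheme.IdealSheafData.vanishingIdeal Z
  have hJ : Set.range J.subschemeι = (Z : Set X) := by
    rw [Scheme.IdealSheafData.range_subschemeι, Scheme.IdealSheafData.coe_support_vanishingIdeal]
  let g : J.subscheme ⟶ Y := J.subschemeι ≫ q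
  obtain ⟨W, hW, hflat, -⟩ := S0414.result g
  have hne : (W : Set Y).Nonempty := hW.nonempty
  obtain ⟨y₀, hy₀⟩ := hne
  have hη : genericPoint Y ∈ W := (genericPoint_specializes y₀).mem_open W.2 hy₀
  refine ⟨W, hη, fun x hx hxZ => ?_⟩
  obtain ⟨z, hz⟩ : x ∈ Set.range J.subschemeι := by rw [hJ]; exact hxZ
  have hzW : z ∈ g ⁻¹ᵁ W := by
    change q.base (J.subschemeι.base z) ∈ W
    rw [hz]; exact hx
  have hsp : (⟨genericPoint Y, hη⟩ : W) ⤳ (g ∣_ W) ⟨z, hzW⟩ :=
    W.ι.isOpenEmbedding.isInducing.specializes_iff.1 (genericPoint_specializes _)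
  obtain ⟨z', -, hgz'⟩ := Flat.generalizingMap (f := g ∣_ W) hsp
  have h := congrArg W.ι hgz'
  rw [← Scheme.Hom.comp_apply, morphismRestrict_ι] at h
  refine hZ (J.subschemeι.base ((g ⁻¹ᵁ W).ι z')) (?_ : _ ∈ (Z : Set X)) h
  rw [← hJ]
  exact Set.mem_range_self _

/-- Geometric reducedness of the fibres spreads out from the generic fibre. -/
theorem exists_open_reduced_fibres {X Y : Scheme.{u}} (q : X ⟶ Y) [IsIntegral Y] [Flat q]
    [LocallyOfFinitePresentation q] [QuasiCompact q]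
    (h : GeometricallyReduced (q.fiberToSpecResidueField (genericPoint Y))) :
    ∃ W : Y.Opens, genericPoint Y ∈ W ∧
      ∀ (K : Type u) [Field K] (k : Spec (CommRingCat.of K) ⟶ (W : Scheme.{u})),
        IsReduced (pullback (q ∣_ W) k) := by
  let Z : Closeds X := ⟨{x | (q.stalkMap x).hom.Flat ∧ H46.GRAt.GRAt q x}ᶜ,
    (H46.NoethModel.isOpen_flat_grAt q).isClosed_compl⟩
  have hgen : ∀ x, q.base x = genericPoint Y → H46.GRAt.GRAt q x := by
    intro x hx
    obtain ⟨a, rfl⟩ : x ∈ Set.range (q.fiberι (genericPoint Y)).base := by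
      rw [Scheme.Hom.range_fiberι]; exact hx
    rw [H46.GRAt.grAt_iff_fiber]
    intro K _ _ x' _
    haveI : IsReduced (_root_.FBase.bc (k := Y.residueField (genericPoint Y)) (q.fiberToSpecResidueField (genericPoint Y)) K) :=
      h.geometrically_isReduced (Spec.map (CommRingCat.ofHom
      (algebraMap (Y.residueField (genericPoint Y)) K))) _ _
      (IsPullback.of_hasPullback (q.fiberToSpecResidueField (genericPoint Y))
        (Spec.map (CommRingCat.ofHom (algebraMap (Y.residueField (genericPoint Y)) K))))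
    infer_instance
  obtain ⟨W, hη, hW⟩ := exists_open_disjoint q Z fun x hx hq => hx ⟨Flat.stalkMap q x, hgen x hq⟩
  refine ⟨W, hη, fun K _ k => ?_⟩
  have sq : IsPullback (pullback.fst (q ∣_ W) k ≫ (q ⁻¹ᵁ W).ι) (pullback.snd (q ∣_ W) k) q (k ≫ W.ι) :=
    (IsPullback.of_hasPullback _ _).paste_horiz (isPullback_morphismRestrict q W).flip
  have hst : ∀ p, _root_.IsReduced ((pullback (q ∣_ W) k).presheaf.stalk p) := by
    intro p
    have hgr : H46.GRAt.GRAt q ((q ⁻¹ᵁ W).ι.base ((pullback.fst (q ∣_ W) k).base p)) := by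
      have hmem := hW _ (show q.base ((q ⁻¹ᵁ W).ι.base ((pullback.fst (q ∣_ W) k).base p)) ∈ W from
        ((pullback.fst (q ∣_ W) k).base p).2)
      exact (not_not.1 hmem).2
    exact H46.GRAt.isReduced_of_isPullback hgr sq p rfl
  exact isReduced_of_isReduced_stalk _

/-- Flat morphisms of finite presentation with reduced geometric fibres are universally locally
0-acyclic (hypothesis form). -/
def FlatRedAcyclic : Prop :=
  ∀ ⦃X Y : Scheme.{u}⦄ (g : X ⟶ Y) [Flat g] [LocallyOfFinitePresentation g],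
    (∀ (K : Type u) [Field K] (k : Spec (CommRingCat.of K) ⟶ Y), IsReduced (pullback g k)) →
    EtAcyc.IsULocZeroAcyclic g

/-- Points around which `f` is universally locally 0-acyclic after a universal homeomorphism. -/
def GoodAt {X S : Scheme.{u}} (f : X ⟶ S) (s : S) : Prop :=
  ∃ (V W : Scheme.{u}) (i : V ⟶ S) (π : W ⟶ V) (X' : Scheme.{u}) (r : X' ⟶ pullback f (π ≫ i)),
    IsOpenImmersion i ∧ FlatMor.IsUnivHomeo π ∧ IsClosedImmersion r ∧ Surjective r ∧
      EtAcyc.IsULocZeroAcyclic (r ≫ pullback.snd f (π ≫ i)) ∧ s ∈ Set.range i.base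

/-- Every nonempty open of a Noetherian space contains a nonempty irreducible open. -/
theorem exists_irreducible_open {T : Type u} [TopologicalSpace T] [NoetherianSpace T] (O : Set T)
    (hO : IsOpen O) (hne : O.Nonempty) : ∃ O' ⊆ O, IsOpen O' ∧ IsIrreducible O' := by
  classical
  obtain ⟨x, hx⟩ := hne
  let comps := irreducibleComponents T
  have hfin : comps.Finite := NoetherianSpace.finite_irreducibleComponents
  let Z := irreducibleComponent x
  have hZ : Z ∈ comps := irreducibleComponent_mem_irreducibleComponents x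
  let R : Set T := ⋃₀ (comps \ {Z})
  have hR : IsClosed R := by
    rw [show R = ⋃ C ∈ comps \ {Z}, C from Set.sUnion_eq_biUnion]
    exact (hfin.subset Set.sdiff_subset).isClosed_biUnion fun C hC =>
      isClosed_of_mem_irreducibleComponents C hC.1
  have hsub : O ∩ Rᶜ ⊆ Z := by
    intro y hy
    by_contra hyZ
    exact hy.2 ⟨irreducibleComponent y, ⟨irreducibleComponent_mem_irreducibleComponents y,
      fun h => hyZ (h ▸ mem_irreducibleComponent)⟩, mem_irreducibleComponent⟩
  have hneZ : (O ∩ Rᶜ).Nonempty := by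
    have hnot : ¬ Z ⊆ R := fun hle => by
      have hirr := isIrreducible_iff_sUnion_isClosed.1 isIrreducible_irreducibleComponent
        (hfin.subset Set.sdiff_subset).toFinset (fun C hC =>
          isClosed_of_mem_irreducibleComponents C ((Set.Finite.mem_toFinset _).1 hC).1)
        (hle.trans (by rw [Set.Finite.coe_toFinset]))
      obtain ⟨C, hC, hZC⟩ := hirr
      have hC' := (Set.Finite.mem_toFinset _).1 hC
      exact hC'.2 (hZ.eq_of_le hC'.1.prop hZC).symm
    obtain ⟨y, hyZ, hyR⟩ := Set.not_subset.1 hnot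
    obtain ⟨w, hw⟩ := (isIrreducible_irreducibleComponent (x := x)).2 O Rᶜ hO hR.isOpen_compl
      ⟨x, mem_irreducibleComponent, hx⟩ ⟨y, hyZ, hyR⟩
    exact ⟨w, hw.2.1, hw.2.2⟩
  refine ⟨O ∩ Rᶜ, Set.inter_subset_left, hO.inter hR.isOpen_compl, hneZ, ?_⟩
  exact (isIrreducible_irreducibleComponent (x := x)).2.open_subset (hO.inter hR.isOpen_compl) hsub

variable {X S : Scheme.{u}} (f : X ⟶ S) [IsNoetherian S] [LocallyOfFiniteType f] [QuasiCompact f]

theorem exists_goodAt (H : FlatRedAcyclic.{u}) (O : S.Opens) (hne : (O : Set S).Nonempty) :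
    ∃ s ∈ O, GoodAt f s := by
  obtain ⟨O', hO'O, hO'o, hirr⟩ := exists_irreducible_open (O : Set S) O.2 hne
  let O₁ : S.Opens := ⟨O', hO'o⟩
  haveI : IrreducibleSpace (O₁ : Scheme.{u}) := by
    haveI := IsIrreducible.isPreirreducible hirr
    exact { toPreirreducibleSpace := ⟨(Subtype.preirreducibleSpace ‹_›).isPreirreducible_univ⟩,
            toNonempty := hirr.nonempty.to_subtype }
  let f₁ := pullback.snd f O₁.ι
  obtain ⟨V, Y', g, X', r, _, -, -, -, hg, hr, hrs, -, hflat, hlfp, hqc, -, hgr⟩ :=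
    Flat55.GeomReducedModel.exists_model f₁
  let q := r ≫ pullback.snd f₁ (g ≫ V.ι)
  haveI := hflat
  haveI := hlfp
  haveI := hqc
  obtain ⟨W, hη, hW⟩ := exists_open_reduced_fibres q hgr
  haveI : Flat (q ∣_ W) := IsZariskiLocalAtTarget.restrict hflat W
  haveI : LocallyOfFinitePresentation (q ∣_ W) := IsZariskiLocalAtTarget.restrict hlfp W
  have hac : EtAcyc.IsULocZeroAcyclic (q ∣_ W) := H (q ∣_ W) hW
  -- the universal homeomorphism onto an open of `S`
  have hhom := UnivHomeo.Basic.isHomeomorph hg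
  let Vo : (V : Scheme.{u}).Opens := ⟨g.base '' W, hhom.isOpenMap _ W.2⟩
  have hWeq : g ⁻¹ᵁ Vo = W := by
    refine SetLike.coe_injective ?_
    exact Set.preimage_image_eq _ hhom.injective
  let π := (Y'.isoOfEq hWeq).inv ≫ (g ∣_ Vo)
  have hπ : FlatMor.IsUnivHomeo π := by
    refine (MorphismProperty.cancel_left_of_respectsIso FlatMor.IsUnivHomeo _ _).2 ?_
    intro A B g₁ g₂ f' sq'
    exact hg _ _ _ (sq'.paste_vert (isPullback_morphismRestrict g Vo))
  let i := Vo.ι ≫ V.ι ≫ O₁.ι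
  have hπi : π ≫ i = W.ι ≫ g ≫ V.ι ≫ O₁.ι := by
    simp only [π, i, Category.assoc, morphismRestrict_ι_assoc, Scheme.isoOfEq_inv_ι_assoc]
  have hw : (((q ⁻¹ᵁ W).ι ≫ r ≫ pullback.fst f₁ (g ≫ V.ι)) ≫ pullback.fst f O₁.ι) ≫ f =
      (q ∣_ W) ≫ π ≫ i := by
    rw [hπi, morphismRestrict_ι_assoc]
    simp only [q, Category.assoc]
    rw [pullback.condition, ← Category.assoc (pullback.fst f₁ _), pullback.condition]
    simp only [Category.assoc]
  let r' : ((q ⁻¹ᵁ W) : Scheme.{u}) ⟶ pullback f (π ≫ i) := pullback.lift _ _ hw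
  have hsq : IsPullback (pullback.fst f₁ (g ≫ V.ι) ≫ pullback.fst f O₁.ι)
      (pullback.snd f₁ (g ≫ V.ι)) f ((g ≫ V.ι) ≫ O₁.ι) :=
    (IsPullback.of_hasPullback f₁ (g ≫ V.ι)).paste_horiz (IsPullback.of_hasPullback f O₁.ι)
  let c : pullback f (π ≫ i) ⟶ pullback f₁ (g ≫ V.ι) :=
    hsq.lift (pullback.fst _ _) (pullback.snd _ _ ≫ W.ι) (by
      rw [pullback.condition, hπi]; simp only [Category.assoc])
  have sqc : IsPullback c (pullback.snd f (π ≫ i)) (pullback.snd f₁ (g ≫ V.ι)) W.ι := by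
    refine IsPullback.of_right ?_ (hsq.lift_snd _ _ _) hsq
    rw [hsq.lift_fst, show W.ι ≫ (g ≫ V.ι) ≫ O₁.ι = π ≫ i by rw [hπi]; simp only [Category.assoc]]
    exact IsPullback.of_hasPullback f (π ≫ i)
  have hr'c : r' ≫ c = (q ⁻¹ᵁ W).ι ≫ r := by
    apply hsq.hom_ext
    · rw [Category.assoc, hsq.lift_fst, pullback.lift_fst]
      simp only [Category.assoc]
    · rw [Category.assoc, hsq.lift_snd, pullback.lift_snd_assoc, morphismRestrict_ι, Category.assoc]
  have sqr : IsPullback (q ⁻¹ᵁ W).ι r' r c := by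
    refine IsPullback.of_bot ?_ hr'c.symm sqc
    rw [pullback.lift_snd]
    exact (isPullback_morphismRestrict q W).flip
  refine ⟨i.base ⟨g.base (genericPoint Y'), genericPoint Y', hη, rfl⟩, hO'O ?_, _, _, i, π, _, r',
    inferInstance, hπ, MorphismProperty.of_isPullback sqr hr, MorphismProperty.of_isPullback sqr hrs,
    ?_, Set.mem_range_self _⟩
  · exact (V.ι.base (Vo.ι.base _)).2
  · rw [pullback.lift_snd]
    exact hac

/-- There is a dense open over which `f` is universally locally 0-acyclic. -/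
theorem exists_dense_open (H : FlatRedAcyclic.{u}) :
    ∃ U : S.Opens, Dense (U : Set S) ∧
      ∀ ⦃X₁ S₁ : Scheme.{u}⦄ (b : S₁ ⟶ S), Set.range b.base ⊆ (U : Set S) →
        ∀ (f₁ : X₁ ⟶ S₁) (b' : X₁ ⟶ X), IsPullback b' f₁ f b → EtAcyc.IsLocZeroAcyclic f₁ := by
  refine ⟨⟨{s | GoodAt f s}, ?_⟩, ?_, fun X₁ S₁ b hb f₁ b' sq x => ?_⟩
  · rw [isOpen_iff_forall_mem_open]
    rintro s ⟨V, W, i, π, X', r, hi, hπ, hr, hs, hac, hmem⟩
    exact ⟨Set.range i.base, fun t ht => ⟨V, W, i, π, X', r, hi, hπ, hr, hs, hac, ht⟩,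
      i.isOpenEmbedding.isOpen_range, hmem⟩
  · rw [dense_iff_inter_open]
    intro O hO hne
    obtain ⟨s, hs, hgood⟩ := exists_goodAt f H ⟨O, hO⟩ hne
    exact ⟨s, hs, hgood⟩
  obtain ⟨V, W, i, π, X', r, hi, hπ, hr, hrs, hac, ⟨v, hv⟩⟩ := hb (Set.mem_range_self (f₁.base x))
  -- the base change
  let j := pullback.fst b i
  let t₁ := pullback.fst (pullback.snd b i) π
  have ht₁ : FlatMor.IsUnivHomeo t₁ := fun A B g₁ g₂ f' H =>
    hπ _ _ _ (H.paste_vert (IsPullback.of_hasPullback (pullback.snd b i) π))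
  let T := pullback (pullback.snd b i) π
  let t : T ⟶ S₁ := t₁ ≫ j
  let jX := pullback.fst f₁ j
  let mX := pullback.fst (pullback.snd f₁ j) t₁
  let XT := pullback (pullback.snd f₁ j) t₁
  have hmX : FlatMor.IsUnivHomeo mX := fun A B g₁ g₂ f' H =>
    ht₁ _ _ _ (H.paste_vert (IsPullback.of_hasPullback (pullback.snd f₁ j) t₁))
  have sqT : IsPullback ((mX ≫ jX) ≫ b') (pullback.snd (pullback.snd f₁ j) t₁) f (t ≫ b) :=
    ((IsPullback.of_hasPullback (pullback.snd f₁ j) t₁).paste_horiz (IsPullback.of_hasPullback f₁ j)).paste_horiz sq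
  have et : t ≫ b = pullback.snd (pullback.snd b i) π ≫ π ≫ i := by
    simp only [t, t₁, j, Category.assoc]
    rw [pullback.condition, ← Category.assoc, pullback.condition, Category.assoc]
  rw [et] at sqT
  let φ : XT ⟶ pullback f (π ≫ i) :=
    pullback.lift ((mX ≫ jX) ≫ b') (pullback.snd _ _ ≫ pullback.snd (pullback.snd b i) π)
      (by rw [sqT.w, Category.assoc])
  have sqφ : IsPullback φ (pullback.snd (pullback.snd f₁ j) t₁) (pullback.snd f (π ≫ i))
      (pullback.snd (pullback.snd b i) π) := by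
    refine IsPullback.of_right ?_ (pullback.lift_snd _ _ _) (IsPullback.of_hasPullback f (π ≫ i))
    rw [pullback.lift_fst]
    exact sqT
  let k := pullback.fst φ r
  haveI : IsClosedImmersion k := MorphismProperty.pullback_fst _ _ hr
  haveI : Surjective k := MorphismProperty.pullback_fst _ _ hrs
  let qT := k ≫ pullback.snd (pullback.snd f₁ j) t₁
  have hqT : EtAcyc.IsLocZeroAcyclic qT :=
    hac qT _ _ (((IsPullback.of_hasPullback φ r).flip).paste_vert sqφ)
  -- the point
  have hpt : x ∈ Set.range jX.base := by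
    rw [Scheme.Pullback.range_fst, Set.mem_preimage, Scheme.Pullback.range_fst, Set.mem_preimage]
    exact ⟨v, hv⟩
  obtain ⟨x₁, rfl⟩ := hpt
  obtain ⟨x₂, rfl⟩ := (UnivHomeo.Basic.surjective hmX).surj x₁
  obtain ⟨z, rfl⟩ := k.surjective x₂
  have hk : LocZeroAt k z :=
    locZeroAt_of_univHomeo k z (UnivHomeo.Basic.of_universallyClosed k)
  have hm : LocZeroAt mX (k.base z) := locZeroAt_of_univHomeo mX _ hmX
  have hj : LocZeroAt jX (mX.base (k.base z)) := locZeroAt_of_openImmersion jX _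
  have hα : LocZeroAt (k ≫ mX ≫ jX) z :=
    LocZeroAt.comp k (mX ≫ jX) z hk (LocZeroAt.comp mX jX (k.base z) hm hj)
  have hcomp : (k ≫ mX ≫ jX) ≫ f₁ = qT ≫ t := by
    simp only [qT, t, mX, jX, Category.assoc]
    rw [pullback.condition, ← Category.assoc (pullback.fst (pullback.snd f₁ j) t₁), pullback.condition]
    simp only [Category.assoc]
  have hall : LocZeroAt ((k ≫ mX ≫ jX) ≫ f₁) z := by
    rw [hcomp]
    exact LocZeroAt.comp qT t z (hqT z)
      (LocZeroAt.comp t₁ j _ (locZeroAt_of_univHomeo t₁ _ ht₁) (locZeroAt_of_openImmersion j _))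
  exact LocZeroAt.of_comp (k ≫ mX ≫ jX) f₁ z hα hall

end Groth.Agent.Lib.LocAcyc9
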