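import Groth.Agent.Lib.EtSite.LocZeroAcyc
import Groth.Agent.Lib.Henselian.StrictHenselization
import Groth.Agent.Lib.FEt.ConnFibres
import Groth.Agent.Lib.FEt.GeomConn
import Groth.Agent.S0754

/-!
# Maps of arbitrary strict localizations of universally locally 0-acyclic morphisms

Universal generalization, connected geometric fibres and full faithfulness of base change of finite
etale covers.
-/

set_option autoImplicit false
set_option backward.isDefEq.respectTransparency false
set_option linter.style.haveILetI false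

universe u

open CategoryTheory CategoryTheory.Limits AlgebraicGeometry IsLocalRing

noncomputable section

namespace Groth.Agent.Lib.LocAcyc9

/-- A surjective quasi-compact universally generalizing morphism is a quotient map. -/
theorem isQuotientMap_of_generalizing {X Y : Scheme.{u}} (f : X ⟶ Y) [QuasiCompact f] [Surjective f]
    (hgen : (topologically GeneralizingMap).universally f) : Topology.IsQuotientMap f.base := by
  change Topology.IsQuotientMap ⇑f
  rw [Topology.isQuotientMap_iff]
  refine ⟨.of_isOpen_preimage_iff_isOpen fun s ↦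
    ⟨fun hs ↦ ?_, fun hs ↦ hs.preimage f.continuous⟩, f.surjective⟩
  have hg : GeneralizingMap ⇑f := MorphismProperty.universally_le _ _ hgen
  clear hgen
  wlog hY : ∃ R, Y = Spec R
  · let 𝒰 := Y.affineCover
    rw [𝒰.isOpenCover_opensRange.isOpen_iff_inter]
    intro i
    rw [Scheme.Hom.coe_opensRange, ← Set.image_preimage_eq_inter_range]
    apply (𝒰.f i).isOpenEmbedding.isOpenMap
    refine this (f := pullback.fst (𝒰.f i) f) _ ?_ ?_ ⟨_, rfl⟩
    · rw [← Set.preimage_comp, ← TopCat.coe_comp, ← Scheme.Hom.comp_base, pullback.condition,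
        Scheme.Hom.comp_base, TopCat.coe_comp, Set.preimage_comp]
      exact hs.preimage (Scheme.Hom.continuous _)
    · intro a b hab
      have h1 : (𝒰.f i) b ⤳ f ((pullback.snd (𝒰.f i) f) a) := by
        rw [← Scheme.Hom.comp_apply, ← pullback.condition, Scheme.Hom.comp_apply]
        exact hab.map (𝒰.f i).continuous
      obtain ⟨c, hc, hfc⟩ := hg h1
      have hc' : c ∈ Set.range (pullback.snd (𝒰.f i) f) := by
        rw [Scheme.Pullback.range_snd]
        exact ⟨b, hfc.symm⟩
      obtain ⟨d, rfl⟩ := hc'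
      refine ⟨d, (pullback.snd (𝒰.f i) f).isOpenEmbedding.isInducing.specializes_iff.1 hc,
        (𝒰.f i).isOpenEmbedding.injective ?_⟩
      rw [← hfc, ← Scheme.Hom.comp_apply, ← Scheme.Hom.comp_apply, pullback.condition]
  obtain ⟨R, rfl⟩ := hY
  wlog hX : ∃ S, X = Spec S
  · have _ : CompactSpace X := QuasiCompact.compactSpace_of_compactSpace f
    let 𝒰 := X.affineCover.finiteSubcover
    let p : ∐ (fun i : 𝒰.I₀ ↦ 𝒰.X i) ⟶ X := Sigma.desc (fun i ↦ 𝒰.f i)
    refine this (f := (∐ (fun i : 𝒰.I₀ ↦ 𝒰.X i)).isoSpec.inv ≫ p ≫ f) _ _ ?_ ?_ ⟨_, rfl⟩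
    · rw [← Category.assoc, Scheme.Hom.comp_base, TopCat.coe_comp, Set.preimage_comp]
      exact hs.preimage (_ ≫ p).continuous
    · rw [← Category.assoc]
      exact (Flat.generalizingMap ((∐ (fun i : 𝒰.I₀ ↦ 𝒰.X i)).isoSpec.inv ≫ p)).comp hg
  obtain ⟨S, rfl⟩ := hX
  obtain ⟨φ, rfl⟩ := Spec.map_surjective f
  refine ((PrimeSpectrum.isQuotientMap_of_generalizingMap ?_ ?_).isOpen_preimage).mp hs
  · exact (surjective_iff (Spec.map φ)).mp inferInstance
  · exact hg

variable {X Y : Scheme.{u}} {g : X ⟶ Y} (hg : EtAcyc.IsULocZeroAcyclic g) (x : X)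
  (R : Type u) [CommRing R] [IsLocalRing R] [Algebra (Y.presheaf.stalk (g.base x)) R]
  [IsLocalHom (algebraMap (Y.presheaf.stalk (g.base x)) R)]
  [Hensel.IsStrictHenselization (Y.presheaf.stalk (g.base x)) R]
  (R' : Type u) [CommRing R'] [IsLocalRing R'] [Algebra (X.presheaf.stalk x) R']
  [IsLocalHom (algebraMap (X.presheaf.stalk x) R')]
  [Hensel.IsStrictHenselization (X.presheaf.stalk x) R']
  [Algebra R R']
  (hc : (algebraMap R R').comp (algebraMap (Y.presheaf.stalk (g.base x)) R) =
    (algebraMap (X.presheaf.stalk x) R').comp (g.stalkMap x).hom)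

include hc in
/-- A map of strict henselizations over a local map is local. -/
theorem isLocalHom_of_strictHenselization : IsLocalHom (algebraMap R R') := by
  refine ((local_hom_TFAE (algebraMap R R')).out 0 2).mpr ?_
  rw [← Henselian.StrictHenselization.map_maximalIdeal (Y.presheaf.stalk (g.base x)) R,
    Ideal.map_map, hc, ← Ideal.map_map]
  refine (Ideal.map_mono (map_maximalIdeal_le (g.stalkMap x).hom)).trans ?_
  exact map_maximalIdeal_le (algebraMap (X.presheaf.stalk x) R')

include hg hc in
theorem isZeroAcyclic_strictMap :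
    EtAcyc.IsZeroAcyclic (Spec.map (CommRingCat.ofHom (algebraMap R R'))) :=
  haveI := isLocalHom_of_strictHenselization x R R' hc
  (hg g (𝟙 X) (𝟙 Y) (IsPullback.of_horiz_isIso ⟨by simp⟩)) x R R' hc

set_option linter.unusedSectionVars false in
include hc in
theorem strictMap_specOf : Spec.map (CommRingCat.ofHom (algebraMap R R')) ≫ Hens2.specOf Y (g.base x) R =
    Hens2.specOf X x R' ≫ g := by
  have e := congrArg (fun φ : _ →+* R' => Spec.map (CommRingCat.ofHom φ)) hc
  simp only [CommRingCat.ofHom_comp, Spec.map_comp] at e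
  dsimp only [Hens2.specOf]
  rw [Category.assoc, ← Scheme.SpecMap_stalkMap_fromSpecStalk, ← Category.assoc, ← Category.assoc]
  exact congrArg (· ≫ Y.fromSpecStalk _) e

include hg hc in
theorem connectedSpace_fibre_strictMap (Ω : Type u) [Field Ω] [IsAlgClosed Ω]
    (s : Spec (CommRingCat.of Ω) ⟶ Spec (CommRingCat.of R)) :
    ConnectedSpace ↥(pullback (Spec.map (CommRingCat.ofHom (algebraMap R R'))) s) :=
  EtSite.ZeroAcycFibre.connectedSpace_fibre (isZeroAcyclic_strictMap hg x R R' hc) Ω s

include hg hc in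
theorem universally_generalizing_strictMap :
    (topologically GeneralizingMap).universally (Spec.map (CommRingCat.ofHom (algebraMap R R'))) := by
  intro P S' i₁ i₂ k sq w₀ z hz
  let t := Hens2.specOf Y (g.base x) R
  let t' := Hens2.specOf X x R'
  let W₀ := pullback g t
  let r₀ : Spec (CommRingCat.of R') ⟶ W₀ :=
    pullback.lift t' _ (strictMap_specOf x R R' hc).symm
  haveI : WeaklyEtale t := Groth.Agent.S0754.result Y (g.base x) R
  haveI : WeaklyEtale (pullback.fst g t) := MorphismProperty.pullback_fst _ _ ‹_›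
  haveI : WeaklyEtale (r₀ ≫ pullback.fst g t) := by
    rw [pullback.lift_fst]; exact Groth.Agent.S0754.result X x R'
  haveI : WeaklyEtale r₀ := WeaklyEtale.of_comp r₀ (pullback.fst g t)
  let p₂ := pullback.snd g t
  let g₁ := pullback.snd p₂ i₂
  have sq₁ : IsPullback (pullback.fst p₂ i₂ ≫ pullback.fst g t) g₁ g (i₂ ≫ t) :=
    (IsPullback.of_hasPullback p₂ i₂).flip.paste_vert (IsPullback.of_hasPullback g t).flip |>.flip
  have hloc : EtAcyc.IsLocZeroAcyclic g₁ := hg g₁ _ _ sq₁
  let r : P ⟶ pullback p₂ i₂ := pullback.lift (i₁ ≫ r₀) k (by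
    rw [Category.assoc, pullback.lift_snd]; exact sq.w.symm)
  have sqr : IsPullback i₁ r r₀ (pullback.fst p₂ i₂) := by
    refine IsPullback.of_bot ?_ ?_ (IsPullback.of_hasPullback p₂ i₂)
    · rw [pullback.lift_snd, pullback.lift_snd]; exact sq.flip
    · exact (pullback.lift_fst _ _ _).symm
  haveI : Flat r := MorphismProperty.of_isPullback (P := @Flat) sqr inferInstance
  have hk : r ≫ g₁ = k := pullback.lift_snd _ _ _
  have hz' : z ⤳ g₁.base (r.base w₀) := by
    rw [← Scheme.Hom.comp_apply, hk]; exact hz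
  obtain ⟨v, hv, hgv⟩ := EtSite.LocZeroAcyc.exists_generalization g₁ hloc _ z hz'
  obtain ⟨w, hw, hrw⟩ := Flat.generalizingMap r hv
  refine ⟨w, hw, ?_⟩
  rw [← hk, Scheme.Hom.comp_apply, hrw, hgv]

/-- Base change of finite etale covers along a quasi-compact universally generalizing morphism
with connected geometric fibres is fully faithful. -/
theorem full_and_faithful_of_generalizing {X S : Scheme.{u}} (k : X ⟶ S) [QuasiCompact k]
    (hgen : (topologically GeneralizingMap).universally k)
    (hfib : ∀ (Ω : Type u) [Field Ω] [IsAlgClosed Ω] (s : Spec (CommRingCat.of Ω) ⟶ S),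
      ConnectedSpace ↥(pullback k s)) :
    (FEt.restrict k).Full ∧ (FEt.restrict k).Faithful := by
  haveI : Surjective k := FEt.ConnFibres.surjective_of_geomFibres k fun Ω _ _ s =>
    (hfib Ω s).toNonempty
  refine FEt.FullyFaithful.full_and_faithful k (FEt.FullyFaithful.meetsClopens_of_surjective k)
    fun W C hC => ?_
  have hqm := isQuotientMap_of_generalizing (pullback.fst W.hom k)
    (MorphismProperty.pullback_fst _ _ hgen)
  have hsat : (pullback.fst W.hom k).base ⁻¹' ((pullback.fst W.hom k).base '' C) = C :=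
    FEt.GeomConn.preimage_image_of_connected_fibres _
      (fun w => FEt.ConnFibres.isPreconnected_fibre k W.hom w (hfib _ _).toPreconnectedSpace) hC
  exact ⟨_, ⟨hqm.isClosed_preimage.1 (hsat.symm ▸ hC.1), hqm.isOpen_preimage.1 (hsat.symm ▸ hC.2)⟩,
    hsat⟩

end Groth.Agent.Lib.LocAcyc9
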