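import Groth.Agent.Lib.EtDiscrete.Crit
import Groth.Agent.Lib.UnivHomeo.Basic
import Groth.Agent.Lib.Henselian.LocalRing
import Groth.Agent.Lib.Henselian.StrictHenselization
import Groth.Agent.Lib.LocAcycBC.Lift
import Groth.Agent.S0537
import Groth.Agent.S3513
import Mathlib.FieldTheory.IsSepClosed

/-!
# Pointwise local 0-acyclicity and universal homeomorphisms
-/

set_option autoImplicit false

universe u

open CategoryTheory CategoryTheory.Limits AlgebraicGeometry IsLocalRing

noncomputable section

namespace Groth.Agent.Lib.LocAcyc9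

/-- The strict localizations at one point give 0-acyclic morphisms. -/
def LocZeroAt {X Y : Scheme.{u}} (g : X ⟶ Y) (x : X) : Prop :=
  ∀ (RY RX : Type u) [CommRing RY] [CommRing RX] [IsLocalRing RY] [IsLocalRing RX]
    [Algebra (Y.presheaf.stalk (g.base x)) RY] [IsLocalHom (algebraMap (Y.presheaf.stalk (g.base x)) RY)]
    [Hensel.IsStrictHenselization (Y.presheaf.stalk (g.base x)) RY]
    [Algebra (X.presheaf.stalk x) RX] [IsLocalHom (algebraMap (X.presheaf.stalk x) RX)]
    [Hensel.IsStrictHenselization (X.presheaf.stalk x) RX]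
    [Algebra RY RX] [IsLocalHom (algebraMap RY RX)],
    (algebraMap RY RX).comp (algebraMap (Y.presheaf.stalk (g.base x)) RY) =
      (algebraMap (X.presheaf.stalk x) RX).comp (g.stalkMap x).hom →
    EtAcyc.IsZeroAcyclic (Spec.map (CommRingCat.ofHom (algebraMap RY RX)))

/-- Universal homeomorphisms are 0-acyclic. -/
theorem isZeroAcyclic_of_univHomeo {A B : Scheme.{u}} (h : A ⟶ B) (hh : FlatMor.IsUnivHomeo h) :
    EtAcyc.IsZeroAcyclic h := by
  refine EtDiscrete.isZeroAcyclic_of_connected h (fun T k => ?_) fun L _ _ η => ?_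
  · have := hh (f' := pullback.snd h k) _ _ (IsPullback.of_hasPullback h k).flip
    exact ⟨this.surjective, this.isQuotientMap⟩
  · have := hh (f' := pullback.snd h η) _ _ (IsPullback.of_hasPullback h η).flip
    have : ConnectedSpace ↥(Spec (CommRingCat.of L)) :=
      have : PreconnectedSpace ↥(Spec (CommRingCat.of L)) :=
        ⟨isPreconnected_univ (α := ↥(Spec (CommRingCat.of L)))⟩
      { toNonempty := inferInstance }
    exact (IsHomeomorph.homeomorph _ ‹IsHomeomorph (pullback.snd h η)›).connectedSpace_iff.2 ‹_›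

variable {X' X : Scheme.{u}} (u : X' ⟶ X) (x' : X')

/-- A morphism is locally 0-acyclic at a point when it becomes a universal homeomorphism over the
strict localization of the base. -/
theorem locZeroAt_of_univHomeo_localization
    (h : ∀ (RY : Type u) [CommRing RY] [IsLocalRing RY] [Algebra (X.presheaf.stalk (u.base x')) RY]
      [IsLocalHom (algebraMap (X.presheaf.stalk (u.base x')) RY)]
      [Hensel.IsStrictHenselization (X.presheaf.stalk (u.base x')) RY],
      FlatMor.IsUnivHomeo (pullback.snd u (Hens2.specOf X (u.base x') RY))) :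
    LocZeroAt u x' := by
  intro RY RX _ _ _ _ _ _ hY _ _ hX _ _ hc
  let s := Hens2.specOf X (u.base x') RY
  let P := pullback u s
  let p₂ := pullback.snd u s
  have hp : FlatMor.IsUnivHomeo p₂ := h RY
  haveI : IsIntegralHom p₂ := UnivHomeo.Basic.isIntegralHom hp
  haveI := UnivHomeo.Basic.universallyInjective hp
  haveI := UnivHomeo.Basic.surjective hp
  haveI : IsAffine P := isAffine_of_isAffineHom p₂
  let D := Γ(P, ⊤)
  let e := P.isoSpec
  -- the ring maps
  obtain ⟨ρ, hρ⟩ := Spec.map_surjective (e.inv ≫ p₂)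
  have hr : (Hens2.specOf X' x' RX) ≫ u =
      Spec.map (CommRingCat.ofHom (algebraMap RY RX)) ≫ s := by
    have e := congrArg (fun φ : _ →+* RX => Spec.map (CommRingCat.ofHom φ)) hc
    simp only [CommRingCat.ofHom_comp, Spec.map_comp] at e
    dsimp only [s, Hens2.specOf]
    rw [Category.assoc, ← Scheme.SpecMap_stalkMap_fromSpecStalk, ← Category.assoc, ← Category.assoc]
    exact congrArg (· ≫ X.fromSpecStalk _) e.symm
  let l : Spec (CommRingCat.of RX) ⟶ P := pullback.lift _ _ hr
  obtain ⟨m, hm⟩ := Spec.map_surjective (l ≫ e.hom)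
  have hl₂ : l ≫ p₂ = Spec.map (CommRingCat.ofHom (algebraMap RY RX)) := pullback.lift_snd _ _ _
  have hl₁ : l ≫ pullback.fst u s = Hens2.specOf X' x' RX := pullback.lift_fst _ _ _
  letI : Algebra RY D := ρ.hom.toAlgebra
  haveI : Algebra.IsIntegral RY D := by
    have : IsIntegralHom (Spec.map ρ) := by rw [hρ]; infer_instance
    exact ⟨IsIntegralHom.SpecMap_iff.1 this⟩
  -- `D` is local
  have hhom : IsHomeomorph (Spec.map ρ).base := by
    rw [hρ, Scheme.Hom.comp_base, TopCat.coe_comp]
    exact (UnivHomeo.Basic.isHomeomorph hp).comp e.inv.homeomorph.isHomeomorph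
  obtain ⟨c, hc'⟩ := hhom.surjective (closedPoint RY : PrimeSpectrum RY)
  have hmaxD : ∀ M : Ideal D, M.IsMaximal → M = (c : PrimeSpectrum D).asIdeal := by
    intro M hM
    have hM' : (M.comap (algebraMap RY D)).IsMaximal :=
      Ideal.isMaximal_comap_of_isIntegral_of_isMaximal M
    exact congrArg PrimeSpectrum.asIdeal (hhom.injective (a₁ := (⟨M, hM.isPrime⟩ : PrimeSpectrum D))
      (a₂ := c) ((PrimeSpectrum.ext (eq_maximalIdeal hM')).trans hc'.symm))
  haveI : IsLocalRing D := by
    haveI : Nontrivial D := PrimeSpectrum.nonempty_iff_nontrivial.1 ⟨c⟩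
    obtain ⟨M, hM⟩ := Ideal.exists_maximal D
    exact IsLocalRing.of_unique_max_ideal ⟨M, hM, fun M' hM' => (hmaxD M' hM').trans (hmaxD M hM).symm⟩
  haveI := hY.henselian
  haveI : HenselianLocalRing D := Henselian.LocalRing.henselianLocalRing_of_isIntegral RY D
  haveI : IsLocalHom ρ.hom := ⟨fun a ha => by
    by_contra hu
    have hle : (maximalIdeal D).comap (algebraMap RY D) = maximalIdeal RY :=
      eq_maximalIdeal (Ideal.isMaximal_comap_of_isIntegral_of_isMaximal _)
    have : a ∈ (maximalIdeal D).comap (algebraMap RY D) := hle ▸ (mem_maximalIdeal a).2 hu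
    exact (mem_maximalIdeal _).1 (Ideal.mem_comap.1 this) ha⟩
  have hmρ : m.hom.comp ρ.hom = algebraMap RY RX := by
    have : ρ ≫ m = CommRingCat.ofHom (algebraMap RY RX) := Spec.map_injective (by
      rw [Spec.map_comp, hρ, hm, Category.assoc, Iso.hom_inv_id_assoc, hl₂])
    exact congrArg CommRingCat.Hom.hom this
  haveI : IsLocalHom m.hom := ⟨fun a ha => by
    by_contra hu
    have hle : (maximalIdeal RX).comap m.hom ≤ maximalIdeal D := le_maximalIdeal (Ideal.comap_ne_top _
      (maximalIdeal.isMaximal RX).ne_top)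
    have hRY : ((maximalIdeal RX).comap m.hom).comap (algebraMap RY D) = maximalIdeal RY := by
      rw [Ideal.comap_comap, show m.hom.comp (algebraMap RY D) = _ from hmρ]
      exact maximalIdeal_comap (algebraMap RY RX)
    haveI : ((maximalIdeal RX).comap m.hom).IsPrime := Ideal.comap_isPrime _ _
    haveI : ((maximalIdeal RX).comap m.hom).IsMaximal :=
      Ideal.isMaximal_of_isIntegral_of_isMaximal_comap _ (hRY ▸ maximalIdeal.isMaximal RY)
    exact (mem_maximalIdeal _).1 (Ideal.mem_comap.1
      ((eq_maximalIdeal ‹((maximalIdeal RX).comap m.hom).IsMaximal›).ge ((mem_maximalIdeal a).2 hu))) ha⟩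
  -- the map from the stalk
  let q₁ := e.inv ≫ pullback.fst u s
  have hclosed : q₁.base (closedPoint D) = x' := by
    have e1 : (Spec.map m).base (closedPoint RX) = closedPoint D := comap_closedPoint m.hom
    rw [← e1, ← Scheme.Hom.comp_apply, hm, Category.assoc, Iso.hom_inv_id_assoc, hl₁,
      Scheme.Hom.comp_apply,
      show (Spec.map (CommRingCat.ofHom (algebraMap (X'.presheaf.stalk x') RX))).base (closedPoint RX) =
        closedPoint (X'.presheaf.stalk x') from comap_closedPoint _,
      Scheme.fromSpecStalk_closedPoint]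
  obtain ⟨σ, hσl, hσ⟩ : ∃ σ : X'.presheaf.stalk x' ⟶ D, IsLocalHom σ.hom ∧
      Spec.map σ ≫ X'.fromSpecStalk x' = q₁ := by
    have key : ∀ y : X', q₁.base (closedPoint D) = y → ∃ σ : X'.presheaf.stalk y ⟶ D,
        IsLocalHom σ.hom ∧ Spec.map σ ≫ X'.fromSpecStalk y = q₁ := by
      rintro _ rfl
      exact ⟨Scheme.stalkClosedPointTo q₁, inferInstance,
        Scheme.Spec_stalkClosedPointTo_fromSpecStalk q₁⟩
    exact key x' hclosed
  haveI := hσl
  haveI : IsSepClosed (ResidueField RY) := hY.isSepClosure.sep_closed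
  have hmσ : m.hom.comp σ.hom = algebraMap (X'.presheaf.stalk x') RX := by
    have : σ ≫ m = CommRingCat.ofHom (algebraMap (X'.presheaf.stalk x') RX) := Spec.map_injective (by
      rw [← cancel_mono (X'.fromSpecStalk x'), Spec.map_comp, Category.assoc, hσ, hm, Category.assoc,
        Iso.hom_inv_id_assoc, hl₁])
    exact congrArg CommRingCat.Hom.hom this
  -- the residue fields
  let κm : ResidueField D →+* ResidueField RX := ResidueField.map m.hom
  haveI : Algebra.IsIntegral (ResidueField RY) (ResidueField D) := ⟨fun z => by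
    obtain ⟨d, rfl⟩ := residue_surjective z
    exact ((Algebra.IsIntegral.isIntegral (R := RY) d).map
      (IsScalarTower.toAlgHom RY D (ResidueField D))).tower_top⟩
  haveI : Algebra.IsAlgebraic (ResidueField RY) (ResidueField D) := inferInstance
  haveI : IsSepClosed (ResidueField D) :=
    Algebra.IsAlgebraic.isSepClosed (F := ResidueField RY) (E := ResidueField D)
  have hκ : Function.Bijective κm := by
    refine ⟨κm.injective, ?_⟩
    letI : Algebra (ResidueField D) (ResidueField RX) := κm.toAlgebra
    letI : Algebra (ResidueField (X'.presheaf.stalk x')) (ResidueField D) :=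
      (ResidueField.map σ.hom).toAlgebra
    haveI : IsScalarTower (ResidueField (X'.presheaf.stalk x')) (ResidueField D) (ResidueField RX) :=
      IsScalarTower.of_algebraMap_eq fun z => by
        obtain ⟨a, rfl⟩ := residue_surjective z
        exact congrArg (residue RX) (RingHom.congr_fun hmσ a).symm
    haveI := hX.isSepClosure.separable
    haveI : Algebra.IsSeparable (ResidueField D) (ResidueField RX) :=
      Algebra.isSeparable_tower_top_of_isSeparable (ResidueField (X'.presheaf.stalk x')) _ _
    exact IsSepClosed.algebraMap_surjective (ResidueField D) (ResidueField RX)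
  let eκ := RingEquiv.ofBijective κm hκ
  obtain ⟨g, ⟨hg, hgτ⟩, -⟩ := hX.universal D σ.hom eκ.symm.toRingHom (RingHom.ext fun z => by
    obtain ⟨a, rfl⟩ := residue_surjective z
    refine eκ.injective ((eκ.apply_symm_apply _).trans ?_)
    exact congrArg (residue RX) (RingHom.congr_fun hmσ a).symm)
  haveI : IsLocalHom g := LocAcycBC.Lift.isLocalHom_of_residue g _ hgτ
  -- `m` and `g` are inverse to each other
  have hmg : m.hom.comp g = RingHom.id RX := by
    refine Henselian.StrictHenselization.comp_eq_id (X'.presheaf.stalk x') _ ?_ fun z => ?_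
    · rw [RingHom.comp_assoc, hg, hmσ]
    · change residue RX (m.hom (g z)) = _
      have : κm (residue D (g z)) = residue RX z := by rw [hgτ]; exact eκ.apply_symm_apply _
      exact this
  have hgρ : g.comp (algebraMap RY RX) = ρ.hom := by
    let τ : ResidueField RY →+* ResidueField D := ResidueField.map ρ.hom
    have hXx : ρ.hom.comp (algebraMap (X.presheaf.stalk (u.base x')) RY) =
        σ.hom.comp (u.stalkMap x').hom := by
      have : CommRingCat.ofHom (algebraMap (X.presheaf.stalk (u.base x')) RY) ≫ ρ = u.stalkMap x' ≫ σ :=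
        Spec.map_injective (by
          rw [← cancel_mono (X.fromSpecStalk (u.base x')), Spec.map_comp, Spec.map_comp, Category.assoc,
            Category.assoc, hρ, Scheme.SpecMap_stalkMap_fromSpecStalk, ← Category.assoc (Spec.map σ), hσ]
          simp only [q₁, Category.assoc, p₂]
          rw [pullback.condition])
      exact congrArg CommRingCat.Hom.hom this
    have h1 : (g.comp (algebraMap RY RX)).comp (algebraMap (X.presheaf.stalk (u.base x')) RY) =
        σ.hom.comp (u.stalkMap x').hom := by
      rw [RingHom.comp_assoc, hc, ← RingHom.comp_assoc, hg]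
    refine (hY.universal D (σ.hom.comp (u.stalkMap x').hom) τ (RingHom.ext fun z => ?_)).unique
      ⟨h1, fun z => κm.injective ?_⟩ ⟨hXx, fun z => rfl⟩
    · obtain ⟨a, rfl⟩ := residue_surjective z
      exact congrArg (residue D) (RingHom.congr_fun hXx a)
    · refine (congrArg κm (hgτ _)).trans ?_
      refine (eκ.apply_symm_apply _).trans ?_
      exact congrArg (residue RX) (RingHom.congr_fun hmρ z).symm
  have hmono : Spec.map (CommRingCat.ofHom g) ≫ l = e.inv := by
    have hl : l = Spec.map m ≫ e.inv := by rw [hm, Category.assoc, Iso.hom_inv_id, Category.comp_id]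
    apply pullback.hom_ext
    · rw [Category.assoc, hl₁, Hens2.specOf, ← Category.assoc, ← Spec.map_comp]
      rw [show CommRingCat.ofHom (algebraMap (X'.presheaf.stalk x') RX) ≫ CommRingCat.ofHom g = σ from
        CommRingCat.hom_ext hg, hσ]
    · rw [Category.assoc, hl₂, ← Spec.map_comp]
      rw [show CommRingCat.ofHom (algebraMap RY RX) ≫ CommRingCat.ofHom g = ρ from
        CommRingCat.hom_ext hgρ, hρ]
  haveI : IsIso l := by
    refine ⟨⟨e.hom ≫ Spec.map (CommRingCat.ofHom g), ?_, ?_⟩⟩
    · rw [← Category.assoc, ← hm, ← Spec.map_comp, show CommRingCat.ofHom g ≫ m = 𝟙 _ from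
        CommRingCat.hom_ext hmg, Spec.map_id]
    · rw [Category.assoc, hmono, Iso.hom_inv_id]
  refine isZeroAcyclic_of_univHomeo _ ?_
  rw [← hl₂]
  exact (MorphismProperty.cancel_left_of_respectsIso FlatMor.IsUnivHomeo l p₂).2 hp

/-- Universal homeomorphisms are locally 0-acyclic. -/
theorem locZeroAt_of_univHomeo (hu : FlatMor.IsUnivHomeo u) : LocZeroAt u x' := by
  refine locZeroAt_of_univHomeo_localization u x' fun RY _ _ _ _ _ => ?_
  intro A B g₁ g₂ f' H
  exact hu _ _ _ (H.paste_vert (IsPullback.of_hasPullback u (Hens2.specOf X (u.base x') RY)).flip)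

/-- Open immersions are locally 0-acyclic. -/
theorem locZeroAt_of_openImmersion [IsOpenImmersion u] : LocZeroAt u x' := by
  refine locZeroAt_of_univHomeo_localization u x' fun RY _ _ _ _ _ => ?_
  let s := Hens2.specOf X (u.base x') RY
  have hrange : Set.range s.base ⊆ Set.range u.base := by
    rintro _ ⟨z, rfl⟩
    have hsp := (specializes_closedPoint (R := RY) z).map s.continuous
    have hcl : s.base (closedPoint RY) = u.base x' := by
      rw [Scheme.Hom.comp_apply, show (Spec.map (CommRingCat.ofHom
        (algebraMap (X.presheaf.stalk (u.base x')) RY))).base (closedPoint RY) =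
          closedPoint (X.presheaf.stalk (u.base x')) from comap_closedPoint _,
        Scheme.fromSpecStalk_closedPoint]
    rw [hcl] at hsp
    exact hsp.mem_open u.isOpenEmbedding.isOpen_range ⟨x', rfl⟩
  haveI : Surjective (pullback.snd u s) := ⟨fun z => by
    have : z ∈ Set.range (pullback.snd u s).base := by
      rw [Scheme.Pullback.range_snd]
      exact hrange ⟨z, rfl⟩
    exact this⟩
  haveI : IsIso (pullback.snd u s) := by
    haveI : IsOpenImmersion (pullback.snd u s) := inferInstance
    exact (isIso_iff_isOpenImmersion_and_epi_base _).2 ⟨inferInstance,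
      (TopCat.epi_iff_surjective _).2 (pullback.snd u s).surjective⟩
  exact UnivHomeo.Basic.of_universallyClosed (pullback.snd u s)

section Comp

variable {A B C : Scheme.{u}} (g : A ⟶ B) (h : B ⟶ C) (a : A)

/-- Composition of locally 0-acyclic morphisms at a point. -/
theorem LocZeroAt.comp (hg : LocZeroAt g a) (hh : LocZeroAt h (g.base a)) : LocZeroAt (g ≫ h) a := by
  intro RZ RX _ _ _ _ aZ lZ hZ _ _ hX _ _ hc
  letI aZ' : Algebra (C.presheaf.stalk (h.base (g.base a))) RZ := aZ
  haveI lZ' : IsLocalHom (algebraMap (C.presheaf.stalk (h.base (g.base a))) RZ) := lZ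
  haveI hZ' : Hensel.IsStrictHenselization (C.presheaf.stalk (h.base (g.base a))) RZ := hZ
  obtain ⟨RY, _, _, _, _, hY⟩ := S0537.result (B.presheaf.stalk (g.base a))
  haveI := hX.henselian
  haveI := hX.isSepClosure.sep_closed
  haveI := hY.henselian
  haveI := hY.isSepClosure.sep_closed
  obtain ⟨j, hj, hjc⟩ := Lib.LocAcycBC.Lift.exists_ringHom (Ash := RY) (T := RX)
    ((algebraMap (A.presheaf.stalk a) RX).comp (g.stalkMap a).hom)
  haveI := hj
  have hc' : (algebraMap RZ RX).comp (algebraMap (C.presheaf.stalk (h.base (g.base a))) RZ) =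
      (j.comp (algebraMap (B.presheaf.stalk (g.base a)) RY)).comp (h.stalkMap (g.base a)).hom := by
    rw [hjc]
    refine hc.trans ?_
    rw [Scheme.Hom.stalkMap_comp]
    rfl
  obtain ⟨ι, hι, hιc, hfac⟩ := Lib.LocAcycBC.Lift.exists_factor (Ash := RZ) (Csh := RY)
    (h.stalkMap (g.base a)).hom j (algebraMap RZ RX) hc'
  let aZY := ι.toAlgebra
  let aYX := j.toAlgebra
  have hloc1 : IsLocalHom (algebraMap RY RX) := hj
  have hloc2 : IsLocalHom (algebraMap RZ RY) := hι
  have e1 := hg RY RX hjc
  have e2 := hh RZ RY hιc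
  have e := ((S3513.result _ _ (∅ : Set ℕ) 0).2 e1).1 e2
  rw [← Spec.map_comp, ← CommRingCat.ofHom_comp] at e
  exact (congrArg (fun m => EtAcyc.IsZeroAcyclic (Spec.map (CommRingCat.ofHom m))) hfac).mp e

/-- Cancellation of a locally 0-acyclic morphism at a point. -/
theorem LocZeroAt.of_comp (hg : LocZeroAt g a) (hgh : LocZeroAt (g ≫ h) a) :
    LocZeroAt h (g.base a) := by
  intro RZ RY _ _ _ _ aZ lZ hZ _ _ hY _ _ hc
  letI aZ' : Algebra (C.presheaf.stalk ((g ≫ h).base a)) RZ := aZ
  haveI lZ' : IsLocalHom (algebraMap (C.presheaf.stalk ((g ≫ h).base a)) RZ) := lZ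
  haveI hZ' : Hensel.IsStrictHenselization (C.presheaf.stalk ((g ≫ h).base a)) RZ := hZ
  obtain ⟨RX, _, _, _, _, hX⟩ := S0537.result (A.presheaf.stalk a)
  haveI := hX.henselian
  haveI := hX.isSepClosure.sep_closed
  obtain ⟨j, hj, hjc⟩ := Lib.LocAcycBC.Lift.exists_ringHom (Ash := RY) (T := RX)
    ((algebraMap (A.presheaf.stalk a) RX).comp (g.stalkMap a).hom)
  let aYX := j.toAlgebra
  let aZX := (j.comp (algebraMap RZ RY)).toAlgebra
  have hloc1 : IsLocalHom (algebraMap RY RX) := hj
  haveI := hj
  have hloc2 : IsLocalHom (algebraMap RZ RX) := RingHom.isLocalHom_comp j (algebraMap RZ RY)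
  have e1 := hg RY RX hjc
  have e2 := hgh RZ RX (by
    change (j.comp (algebraMap RZ RY)).comp _ = _
    rw [RingHom.comp_assoc, Scheme.Hom.stalkMap_comp]
    refine (congrArg (RingHom.comp j) hc).trans ?_
    rw [← RingHom.comp_assoc, hjc]
    rfl)
  refine ((S3513.result _ _ (∅ : Set ℕ) 0).2 e1).2 ?_
  rw [← Spec.map_comp, ← CommRingCat.ofHom_comp]
  exact e2

end Comp

end Groth.Agent.Lib.LocAcyc9
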